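import Groth.Agent.HilbSam.Len
import Groth.Agent.SopLength.Basic

/-! Degree of the Hilbert–Samuel polynomial = dimension (semi-local Noetherian rings). -/

namespace Groth.Agent.HilbSam

universe u

open Filter

variable {A : Type u} [CommRing A] [IsNoetherianRing A] {M : Type u} [AddCommGroup M] [Module A M]

theorem length_ne_top_of_ann (N : Type u) [AddCommGroup N] [Module A N] [Module.Finite A N]
    (J : Ideal A) (hJ : J ≤ Module.annihilator A N)
    (hmax : ∀ P : Ideal A, P.IsPrime → J ≤ P → P.IsMaximal) : Module.length A N ≠ ⊤ := by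
  haveI : Ring.KrullDimLE 0 (A ⧸ J) := by
    rw [Ring.krullDimLE_zero_iff]
    intro P hP
    have h := hmax (P.comap (Ideal.Quotient.mk J)) inferInstance (fun a ha => by
      rw [Ideal.mem_comap, Ideal.Quotient.eq_zero_iff_mem.2 ha]; exact zero_mem _)
    rw [← Ideal.map_comap_of_surjective _ Ideal.Quotient.mk_surjective P]
    exact (Ideal.map_eq_top_or_isMaximal_of_surjective _ Ideal.Quotient.mk_surjective h).resolve_left
      fun h' => hP.ne_top (by rwa [Ideal.map_comap_of_surjective _ Ideal.Quotient.mk_surjective] at h')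
  haveI : IsArtinianRing (A ⧸ J) :=
    isArtinianRing_iff_isNoetherianRing_krullDimLE_zero.2 ⟨inferInstance, ‹_›⟩
  have htor : Module.IsTorsionBySet A N J := fun x a => Module.mem_annihilator.1 (hJ a.2) x
  letI := htor.module
  haveI : Module.Finite (A ⧸ J) N := Module.Finite.of_restrictScalars_finite A (A ⧸ J) N
  rw [Module.length_eq_of_surjective (S := A) (R := A ⧸ J) Ideal.Quotient.mk_surjective]
  exact Module.length_ne_top

/-- `n ↦ length (M / qⁿM)`. -/
noncomputable def hs (q : Ideal A) (M : Type u) [AddCommGroup M] [Module A M] (n : ℕ) : ℕ∞ :=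
  Module.length A (M ⧸ (q ^ n • ⊤ : Submodule A M))

theorem hs_mono {r q : Ideal A} (h : q ≤ r) (n : ℕ) : hs r M n ≤ hs q M n :=
  Module.length_le_of_surjective _
    (Submodule.factor_surjective (Submodule.smul_mono_left (Ideal.pow_right_mono h n)))

theorem hs_ne_top [Module.Finite A M] {q : Ideal A}
    (hq : ∀ P : Ideal A, P.IsPrime → q ≤ P → Module.annihilator A M ≤ P → P.IsMaximal) (n : ℕ) :
    hs q M n ≠ ⊤ := by
  refine length_ne_top_of_ann _ (q ^ n ⊔ Module.annihilator A M) ?_ fun P hP h => ?_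
  · refine sup_le ?_ ?_
    · intro a ha
      rw [Module.mem_annihilator]
      intro x
      obtain ⟨y, rfl⟩ := Submodule.Quotient.mk_surjective _ x
      rw [← Submodule.Quotient.mk_smul, Submodule.Quotient.mk_eq_zero]
      exact Submodule.smul_mem_smul ha Submodule.mem_top
    · exact LinearMap.annihilator_le_of_surjective (Submodule.mkQ _) (Submodule.mkQ_surjective _)
  · exact hq P hP (Ideal.IsPrime.le_of_pow_le (le_sup_left.trans h)) (le_sup_right.trans h)

theorem evPoly_hs [Module.Finite A M] (xs : List A)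
    (hq : ∀ P : Ideal A, P.IsPrime → Ideal.ofList xs ≤ P → Module.annihilator A M ≤ P → P.IsMaximal) :
    EvPoly (xs.length + 1) fun n => ((hs (Ideal.ofList xs) M n).toNat : ℚ) := by
  set q := Ideal.ofList xs
  let F := q.stableFiltration (⊤ : Submodule A M)
  let F' : q.Filtration M :=
    { N := fun n => F.N (n + 1)
      mono := fun n => F.mono (n + 1)
      smul_le := fun n => F.smul_le (n + 1) }
  have htop : ∀ n, hs q M n = len ⊤ (F.N n) := fun n => by
    rw [len, Submodule.map_top, Submodule.range_mkQ, Module.length_top]; rfl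
  have hfin : ∀ n, len (F.N n) (F'.N n) ≠ ⊤ := fun n =>
    ne_top_of_le_ne_top (htop (n + 1) ▸ hs_ne_top hq (n + 1)) (len_mono (F.mono n) le_top)
  have h := evPoly_pair xs (fun x hx => Ideal.subset_span hx) F F' (q.stableFiltration_stable ⊤)
    (fun n => F.mono n) ⊥ le_sup_right (fun n => by rw [Submodule.bot_smul]; exact bot_le) hfin
  refine EvPoly.of_diff (h.congr (Eventually.of_forall fun n => ?_))
  have e := len_add (P := ⊤) (R := F.N n) (Q := F.N (n + 1)) (F.mono n) le_top
  have hn : len (⊤ : Submodule A M) (F.N n) ≠ ⊤ := htop n ▸ hs_ne_top hq n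
  show _ = _ - _
  rw [htop, htop, e, ENat.toNat_add (hfin n) hn]
  push_cast
  ring

theorem prime_avoid [Finite (MaximalSpectrum A)] {P : Ideal A} [P.IsPrime]
    (h : Ring.jacobson A ≤ P) : P.IsMaximal := by
  classical
  haveI := Fintype.ofFinite (MaximalSpectrum A)
  have hprod : ∏ m : MaximalSpectrum A, m.asIdeal ≤ Ring.jacobson A := by
    rw [Ring.jacobson_eq_sInf_isMaximal]
    refine le_sInf fun I hI => ?_
    exact Ideal.prod_le_inf.trans (Finset.inf_le (Finset.mem_univ (⟨I, hI⟩ : MaximalSpectrum A)))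
  obtain ⟨m, -, hm⟩ := (Ideal.IsPrime.prod_le ‹_›).1 (hprod.trans h)
  rw [← m.isMaximal.eq_of_le ‹P.IsPrime›.ne_top hm]
  exact m.isMaximal

theorem exists_params [Finite (MaximalSpectrum A)] : ∀ (d : ℕ) (J : Ideal A),
    (∀ s : LTSeries (PrimeSpectrum A), J ≤ s.head.asIdeal → s.length ≤ d) →
    ∃ xs : List A, xs.length ≤ d ∧ (∀ x ∈ xs, x ∈ Ring.jacobson A) ∧
      ∀ P : Ideal A, P.IsPrime → Ideal.ofList xs ≤ P → J ≤ P → P.IsMaximal := by
  classical
  intro d
  induction d with
  | zero =>
    intro J hJ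
    refine ⟨[], le_rfl, by simp, fun P hP _ hPJ => ?_⟩
    by_contra hmax
    obtain ⟨m, hm, hPm⟩ := Ideal.exists_le_maximal P hP.ne_top
    let s : LTSeries (PrimeSpectrum A) := (RelSeries.singleton _ (⟨P, hP⟩ : PrimeSpectrum A)).snoc
      ⟨m, hm.isPrime⟩ (lt_of_le_of_ne hPm fun h => hmax (h ▸ hm) : P < m)
    have := hJ s (by simpa [s] using hPJ)
    simp [s] at this
  | succ d ih =>
    intro J hJ
    let T := ((J.finite_minimalPrimes_of_isNoetherianRing A).toFinset.filter fun p => ¬ p.IsMaximal)
    obtain ⟨y, hyr, hy⟩ : ∃ y ∈ Ring.jacobson A, ∀ p ∈ T, y ∉ p := by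
      by_contra hc
      push Not at hc
      have hsub : (Ring.jacobson A : Set A) ⊆ ⋃ p ∈ (↑T : Set (Ideal A)), (p : Set A) := fun a ha => by
        obtain ⟨p, hp, hap⟩ := hc a ha
        exact Set.mem_biUnion hp hap
      obtain ⟨p, hp, hle⟩ := (Ideal.subset_union_prime (R := A) (f := fun p : Ideal A => p) ⊥ ⊥
        (fun i hi _ _ => ((Set.Finite.mem_toFinset _).1 (Finset.mem_filter.1 hi).1).isPrime)).1 hsub
      obtain ⟨hp1, hp2⟩ := Finset.mem_filter.1 hp
      haveI := ((Set.Finite.mem_toFinset _).1 hp1).isPrime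
      exact hp2 (prime_avoid hle)
    obtain ⟨xs, hlen, hxs, hmax⟩ := ih (J ⊔ Ideal.span {y}) fun s hs => by
      obtain ⟨p, hp, hps⟩ := Ideal.exists_minimalPrimes_le (le_sup_left.trans hs)
      haveI := hp.isPrime
      by_cases hpm : p.IsMaximal
      · rcases Nat.eq_zero_or_pos s.length with h0 | h0
        · omega
        · exfalso
          have h1 : p < (s.last).asIdeal := lt_of_le_of_lt hps (s.strictMono (show (0 : Fin (s.length + 1)) < Fin.last _ from by simpa [Fin.lt_def] using h0) : s.head < s.last)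
          exact (lt_irrefl _ ((hpm.eq_of_le s.last.2.ne_top h1.le).symm ▸ h1))
      · have hlt : (⟨p, inferInstance⟩ : PrimeSpectrum A) < s.head := by
          refine lt_of_le_of_ne hps fun h => ?_
          refine hy p (Finset.mem_filter.2 ⟨(Set.Finite.mem_toFinset _).2 hp, hpm⟩) ?_
          rw [← congrArg PrimeSpectrum.asIdeal h] at hs
          exact hs (Ideal.mem_sup_right (Ideal.mem_span_singleton_self y))
        have := hJ (s.cons _ hlt) (by rw [RelSeries.head_cons]; exact hp.1.2)
        rw [RelSeries.cons_length] at this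
        omega
    refine ⟨y :: xs, by simp only [List.length_cons]; omega, List.forall_mem_cons.2 ⟨hyr, hxs⟩, ?_⟩
    intro P hP hPxs hPJ
    rw [Ideal.ofList_cons] at hPxs
    exact hmax P hP (le_sup_right.trans hPxs) (sup_le hPJ (le_sup_left.trans hPxs))

theorem length_quot_localization {D : Type u} [CommRing D] (m : Ideal D) [hm : m.IsMaximal] (t : ℕ)
    (B : Type u) [CommRing B] [Algebra D B] [IsLocalization.AtPrime B m] [IsLocalRing B] :
    Module.length B (B ⧸ IsLocalRing.maximalIdeal B ^ t) ≤ Module.length D (D ⧸ m ^ t) := by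
  let f : (D ⧸ m ^ t) →ₗ[D] B ⧸ IsLocalRing.maximalIdeal B ^ t :=
    Submodule.liftQ _ ((Algebra.linearMap D (B ⧸ IsLocalRing.maximalIdeal B ^ t))) (by
      intro a ha
      rw [LinearMap.mem_ker, Algebra.linearMap_apply, IsScalarTower.algebraMap_apply D B,
        Ideal.Quotient.algebraMap_eq, Ideal.Quotient.eq_zero_iff_mem]
      refine (Ideal.map_le_iff_le_comap.2 ?_) (Ideal.mem_map_of_mem _ ha : _ ∈ (m ^ t).map (algebraMap D B))
      rw [← Ideal.map_le_iff_le_comap, Ideal.map_pow]
      exact Ideal.pow_right_mono (le_of_eq (IsLocalization.AtPrime.map_eq_maximalIdeal m B)) t)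
  have hsurj : Function.Surjective (algebraMap D (B ⧸ IsLocalRing.maximalIdeal B ^ t)) := by
    intro x
    obtain ⟨b, rfl⟩ := Ideal.Quotient.mk_surjective x
    obtain ⟨⟨a, s⟩, hb⟩ := IsLocalization.surj m.primeCompl b
    rcases t.eq_zero_or_pos with rfl | ht
    · exact ⟨0, by
        haveI : Subsingleton (B ⧸ IsLocalRing.maximalIdeal B ^ 0) :=
          Ideal.Quotient.subsingleton_iff.2 (by rw [pow_zero, Ideal.one_eq_top])
        exact Subsingleton.elim _ _⟩
    obtain ⟨u, w, hw, huw⟩ : ∃ u w, w ∈ m ^ t ∧ u * (s : D) + w = 1 := by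
      have : Ideal.span {(s : D)} ⊔ m ^ t = ⊤ := by
        apply Ideal.sup_pow_eq_top
        by_contra h
        have h' := hm.eq_of_le h le_sup_right
        exact s.2 (show (s : D) ∈ m from by
          have hs0 : (s : D) ∈ Ideal.span {(s : D)} ⊔ m := Ideal.mem_sup_left (Ideal.mem_span_singleton_self _)
          rwa [← h'] at hs0)
      rw [Ideal.eq_top_iff_one, Submodule.mem_sup] at this
      obtain ⟨y, hy, w, hw, h⟩ := this
      obtain ⟨u, rfl⟩ := Ideal.mem_span_singleton'.1 hy
      exact ⟨u, w, hw, h⟩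
    refine ⟨a * u, ?_⟩
    rw [IsScalarTower.algebraMap_apply D B, Ideal.Quotient.algebraMap_eq, Ideal.Quotient.eq]
    have hw' : algebraMap D B w ∈ IsLocalRing.maximalIdeal B ^ t := by
      have := Ideal.mem_map_of_mem (algebraMap D B) hw
      rwa [Ideal.map_pow, IsLocalization.AtPrime.map_eq_maximalIdeal m B] at this
    have e : algebraMap D B (a * u) - b = -(b * algebraMap D B w) := by
      have : b = b * algebraMap D B (u * s + w) := by rw [huw, map_one, mul_one]
      rw [map_add, map_mul] at this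
      rw [map_mul, ← hb]
      linear_combination -this
    rw [e]
    exact neg_mem (Ideal.mul_mem_left _ _ hw')
  refine le_trans ?_ (Module.length_le_of_surjective f fun x => by
    obtain ⟨a, rfl⟩ := hsurj x
    exact ⟨Submodule.Quotient.mk a, rfl⟩)
  rw [← Module.length_top (R := B), ← Module.length_top (R := D) (M := B ⧸ _)]
  exact Submodule.length_le_length_restrictScalars D ⊤

theorem lower_chain [Module.Finite A M] [Finite (MaximalSpectrum A)] (s : LTSeries (PrimeSpectrum A))
    (hs' : Module.annihilator A M ≤ s.head.asIdeal) {P : Polynomial ℚ}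
    (hP : ∀ᶠ n in atTop, ((hs (Ring.jacobson A) M n).toNat : ℚ) = P.eval (n : ℚ))
    (hfin : ∀ n, hs (Ring.jacobson A) M n ≠ ⊤) : s.length ≤ P.natDegree := by
  obtain ⟨p, hp, hps⟩ := Ideal.exists_minimalPrimes_le hs'
  haveI := hp.isPrime
  obtain ⟨-, f, hf⟩ := (isAssociatedPrime_iff_exists_injective_linearMap p M).1
    (Module.associatedPrimes.minimalPrimes_annihilator_subset_associatedPrimes A M hp)
  obtain ⟨m, hm, hsm⟩ := Ideal.exists_le_maximal _ s.last.2.ne_top
  set r := Ring.jacobson A
  have hrm : r ≤ m := by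
    rw [show r = _ from Ring.jacobson_eq_sInf_isMaximal A]
    exact sInf_le hm
  set D := A ⧸ p
  set m' := m.map (Ideal.Quotient.mk p)
  have hpm : p ≤ m := (hps.trans ((s.head_le_last : s.head ≤ s.last) : s.head.asIdeal ≤ s.last.asIdeal)).trans hsm
  haveI hm' : m'.IsMaximal := (Ideal.map_eq_top_or_isMaximal_of_surjective _ Ideal.Quotient.mk_surjective
    hm).resolve_left fun h => hm.ne_top (by
      have := congrArg (Ideal.comap (Ideal.Quotient.mk p)) h
      rwa [Ideal.comap_map_of_surjective' _ Ideal.Quotient.mk_surjective, Ideal.mk_ker,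
        sup_eq_left.2 hpm, Ideal.comap_top] at this)
  -- the dimension of the local ring
  let B := Localization.AtPrime m'
  have hdim : (s.length : WithBot ℕ∞) ≤ ringKrullDim B := by
    rw [IsLocalization.AtPrime.ringKrullDim_eq_height m' B]
    have hle : ∀ i, (s i).asIdeal ≤ m := fun i => by
      have h : s i ≤ s.last := s.monotone (Fin.le_last i)
      exact (show (s i).asIdeal ≤ s.last.asIdeal from h).trans hsm
    have hsi : ∀ i, (Ideal.Quotient.mk p) '' (s i).asIdeal ⊆ m' := fun i =>
      Set.image_subset_iff.2 fun a ha => Ideal.mem_map_of_mem _ (hle i ha)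
    have hker : ∀ i, p ≤ (s i).asIdeal := fun i => hps.trans (s.monotone (Fin.zero_le i))
    haveI hpr : ∀ i, ((s i).asIdeal.map (Ideal.Quotient.mk p)).IsPrime := fun i =>
      Ideal.map_isPrime_of_surjective Ideal.Quotient.mk_surjective (by rw [Ideal.mk_ker]; exact hker i)
    let s' : LTSeries (PrimeSpectrum D) :=
      { length := s.length
        toFun := fun i => ⟨_, hpr i⟩
        step := fun i => by
          refine lt_of_le_of_ne (Ideal.map_mono (le_of_lt (show s i.castSucc < s i.succ from s.step i))) fun h => (ne_of_lt (show s i.castSucc < s i.succ from s.step i)) ?_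
          have := congrArg (fun x : Ideal D => x.comap (Ideal.Quotient.mk p)) h
          simp only [Ideal.comap_map_of_surjective' _ Ideal.Quotient.mk_surjective, Ideal.mk_ker,
            sup_eq_left.2 (hker _)] at this
          exact PrimeSpectrum.ext this }
    refine WithBot.coe_le_coe.2 ?_
    change (s.length : ℕ∞) ≤ (⟨m', hm'.isPrime⟩ : PrimeSpectrum D).asIdeal.height
    rw [PrimeSpectrum.height_eq_orderHeight]
    exact Order.length_le_height (p := s') (x := ⟨m', hm'.isPrime⟩)
      (Ideal.map_le_iff_le_comap.2 fun a ha => hsi _ ⟨a, ha, rfl⟩)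
  obtain ⟨d', hd'⟩ : ∃ d' : ℕ, ringKrullDim B = d' := by
    rw [IsLocalization.AtPrime.ringKrullDim_eq_height m' B]
    obtain ⟨d', hd'⟩ := ENat.ne_top_iff_exists.1 (Ideal.height_ne_top (I := m') hm'.ne_top)
    exact ⟨d', by rw [← hd']; rfl⟩
  rw [hd'] at hdim
  have hsd : s.length ≤ d' := by exact_mod_cast hdim
  obtain ⟨C, hC⟩ := SopLength.exists_pow_le_length d' B hd'
  -- Artin–Rees
  obtain ⟨c, hc⟩ := r.exists_pow_inf_eq_pow_smul (LinearMap.range f)
  have key : ∀ t, Module.length D (D ⧸ m' ^ t) ≤ hs r M (t + c) := by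
    intro t
    rw [← Module.length_eq_of_surjective (S := A) (R := D) Ideal.Quotient.mk_surjective]
    let φ : A →ₗ[A] M ⧸ (r ^ (t + c) • ⊤ : Submodule A M) :=
      Submodule.mkQ _ ∘ₗ f ∘ₗ Submodule.mkQ p
    let π : A →ₗ[A] D ⧸ m' ^ t := Algebra.linearMap A _
    have hπ : Function.Surjective π := fun x => by
      obtain ⟨x, rfl⟩ := Ideal.Quotient.mk_surjective x
      obtain ⟨x, rfl⟩ := Ideal.Quotient.mk_surjective x
      exact ⟨x, rfl⟩
    have hker : LinearMap.ker φ ≤ LinearMap.ker π := by
      intro a ha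
      have h1 : f (Submodule.mkQ p a) ∈ r ^ (t + c) • (⊤ : Submodule A M) ⊓ LinearMap.range f :=
        ⟨(Submodule.Quotient.mk_eq_zero _).1 ha, _, rfl⟩
      rw [hc _ (Nat.le_add_left c t), Nat.add_sub_cancel] at h1
      have h2 : f (Submodule.mkQ p a) ∈ (r ^ t • (⊤ : Submodule A D)).map f := by
        rw [Submodule.map_smul'', Submodule.map_top]
        exact Submodule.smul_mono le_rfl inf_le_right h1
      obtain ⟨y, hy, hfy⟩ := h2
      have := hf hfy
      subst this
      rw [LinearMap.mem_ker]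
      show Ideal.Quotient.mk _ (Ideal.Quotient.mk p a) = 0
      rw [Ideal.Quotient.eq_zero_iff_mem]
      rw [Submodule.mkQ_apply, Ideal.smul_top_eq_map] at hy
      replace hy : Ideal.Quotient.mk p a ∈ (r ^ t).map (algebraMap A D) := hy
      refine Ideal.pow_right_mono (?_ : r.map (algebraMap A D) ≤ m') t ?_
      · exact Ideal.map_mono hrm
      · rw [← Ideal.map_pow]; exact hy
    refine le_trans ?_ (Module.length_le_of_injective (LinearMap.range φ).subtype Subtype.val_injective)
    rw [← φ.quotKerEquivRange.length_eq, ← (LinearMap.quotKerEquivOfSurjective π hπ).length_eq]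
    exact Module.length_le_of_surjective _ (Submodule.factor_surjective hker)
  refine hsd.trans (le_natDegree_of_pow_le (c := c) (K := (C : ℚ)) ?_)
  filter_upwards [(tendsto_add_atTop_nat c).eventually hP, eventually_gt_atTop 0] with t ht ht0
  rw [← ht]
  have h1 := (hC t ht0).trans (mul_le_mul' le_rfl ((length_quot_localization m' t B).trans (key t)))
  obtain ⟨v, hv⟩ := ENat.ne_top_iff_exists.1 (hfin (t + c))
  rw [← hv] at h1 ⊢
  rw [ENat.toNat_natCast]
  exact_mod_cast h1

theorem main [Finite (MaximalSpectrum A)] [Module.Finite A M] [Nontrivial M] :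
    ∃ P : Polynomial ℚ, (∃ N : ℕ, ∀ n : ℕ, N ≤ n → ∃ ℓ : ℕ,
      Module.length A (M ⧸ (Ring.jacobson A ^ n • (⊤ : Submodule A M))) = ℓ ∧
        (ℓ : ℚ) = P.eval (n : ℚ)) ∧ (P.natDegree : WithBot ℕ∞) = Module.supportDim A M := by
  set r := Ring.jacobson A
  obtain ⟨S, hS⟩ := (IsNoetherian.noetherian r)
  have hr : Ideal.ofList S.toList = r := by
    rw [Ideal.ofList, ← hS]
    congr 1
    ext; simp
  have hmaxr : ∀ P : Ideal A, P.IsPrime → r ≤ P → Module.annihilator A M ≤ P → P.IsMaximal :=
    fun P hP h _ => prime_avoid h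
  obtain ⟨P, -, hP⟩ := evPoly_hs (M := M) S.toList (by rw [hr]; exact hmaxr)
  rw [hr] at hP
  have hfin : ∀ n, hs r M n ≠ ⊤ := hs_ne_top hmaxr
  refine ⟨P, ?_, ?_⟩
  · obtain ⟨N, hN⟩ := eventually_atTop.1 hP
    refine ⟨N, fun n hn => ⟨(hs r M n).toNat, (ENat.natCast_toNat (hfin n)).symm, hN n hn⟩⟩
  have hlow : ∀ s : LTSeries (PrimeSpectrum A), Module.annihilator A M ≤ s.head.asIdeal →
      s.length ≤ P.natDegree := fun s hs' => lower_chain s hs' hP hfin
  rw [Module.supportDim, Module.support_eq_zeroLocus]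
  haveI : Nonempty (PrimeSpectrum.zeroLocus (Module.annihilator A M : Set A)) := by
    rw [← Module.support_eq_zeroLocus]
    exact Module.nonempty_support_of_nontrivial.to_subtype
  set Z := PrimeSpectrum.zeroLocus (Module.annihilator A M : Set A)
  have hup : Order.krullDim Z ≤ (P.natDegree : ℕ) := iSup_le fun s => by
    have := hlow (s.map Subtype.val (fun a b h => h)) (by
      rw [LTSeries.head_map]; exact (PrimeSpectrum.mem_zeroLocus _ _).1 s.head.2)
    exact_mod_cast this
  refine le_antisymm ?_ hup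
  obtain ⟨d, hd⟩ : ∃ d : ℕ, Order.krullDim Z = d := by
    generalize hk : Order.krullDim Z = k at hup ⊢
    have hne : (0 : WithBot ℕ∞) ≤ k := hk ▸ Order.krullDim_nonneg
    induction k using WithBot.recBotCoe with
    | bot => simp at hne
    | coe a =>
      induction a using ENat.recTopCoe with
      | top => exact absurd (WithBot.coe_le_coe.1 hup) (by simp)
      | coe a => exact ⟨a, rfl⟩
  obtain ⟨xs, hlen, hxs, hmax⟩ := exists_params d (Module.annihilator A M) fun s hs' => by
    let s' : LTSeries Z :=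
      { length := s.length
        toFun := fun i => ⟨s i, (PrimeSpectrum.mem_zeroLocus _ _).2
          (hs'.trans (s.monotone (Fin.zero_le i)))⟩
        step := fun i => s.step i }
    have := Order.LTSeries.length_le_krullDim s'
    rw [hd] at this
    exact_mod_cast this
  obtain ⟨Q, hQdeg, hQ⟩ := evPoly_hs (M := M) xs hmax
  have hle : P.natDegree ≤ xs.length := by
    refine natDegree_le_of_le_pow (K := ∑ i ∈ Finset.range (xs.length + 1), |Q.coeff i|)
      (hP.mono fun n hn => hn ▸ Nat.cast_nonneg _) ?_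
    filter_upwards [hP, hQ, eventually_gt_atTop 0] with n hn hn' hn0
    rw [← hn]
    refine le_trans (b := Q.eval (n : ℚ)) ?_ ?_
    · rw [← hn']
      exact Nat.cast_le.2 (ENat.toNat_le_toNat (hs_mono (Ideal.span_le.2 fun x hx => hxs x hx) n)
        (hs_ne_top hmax n))
    · have hnd : Q.natDegree < xs.length + 1 := by
        rcases eq_or_ne Q 0 with h | h
        · simp [h]
        · exact (Polynomial.natDegree_lt_iff_degree_lt h).2 hQdeg
      rw [Polynomial.eval_eq_sum_range' hnd, Finset.sum_mul]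
      refine Finset.sum_le_sum fun i hi => ?_
      refine mul_le_mul (le_abs_self _) ?_ (pow_nonneg (Nat.cast_nonneg _) _) (abs_nonneg _)
      exact pow_le_pow_right₀ (by exact_mod_cast hn0) (Nat.lt_succ_iff.1 (Finset.mem_range.1 hi))
  rw [hd]
  exact_mod_cast hle.trans hlen

end Groth.Agent.HilbSam
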