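import Mathlib.Analysis.Polynomial.Basic
import Mathlib.Algebra.Polynomial.Degree.Lemmas
import Mathlib.Order.Filter.AtTopBot.Finset

/-! Eventually polynomial functions of bounded degree. -/

namespace Groth.Agent.HilbSam

open Polynomial Filter

/-- `f` is eventually given by a polynomial of degree `< d`. -/
def EvPoly (d : ℕ) (f : ℕ → ℚ) : Prop :=
  ∃ P : ℚ[X], P.degree < d ∧ ∀ᶠ n : ℕ in atTop, f n = P.eval (n : ℚ)

theorem evPoly_zero {f : ℕ → ℚ} (h : ∀ᶠ n in atTop, f n = 0) (d : ℕ) : EvPoly d f :=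
  ⟨0, by rw [degree_zero]; exact WithBot.bot_lt_coe _, h.mono fun n hn => by rw [hn, eval_zero]⟩

theorem EvPoly.congr {d : ℕ} {f g : ℕ → ℚ} (h : EvPoly d f) (hfg : ∀ᶠ n in atTop, f n = g n) :
    EvPoly d g := by
  obtain ⟨P, hP, hf⟩ := h
  exact ⟨P, hP, (hf.and hfg).mono fun n hn => hn.2 ▸ hn.1⟩

theorem EvPoly.sub {d : ℕ} {f g : ℕ → ℚ} (h : EvPoly d f) (h' : EvPoly d g) :
    EvPoly d (fun n => f n - g n) := by
  obtain ⟨P, hP, hf⟩ := h
  obtain ⟨Q, hQ, hg⟩ := h'
  exact ⟨P - Q, (degree_sub_le P Q).trans_lt (max_lt hP hQ),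
    (hf.and hg).mono fun n hn => by simp only [eval_sub]; rw [hn.1, hn.2]⟩

theorem EvPoly.shift {d : ℕ} {f : ℕ → ℚ} (h : EvPoly d f) : EvPoly d (fun n => f (n + 1)) := by
  obtain ⟨P, hP, hf⟩ := h
  refine ⟨P.comp (X + C 1), ?_, ?_⟩
  · rcases eq_or_ne P 0 with rfl | hP0
    · rw [zero_comp]; exact hP
    · refine degree_le_natDegree.trans_lt ?_
      rw [natDegree_comp, natDegree_X_add_C, mul_one]
      exact Nat.cast_lt.2 ((natDegree_lt_iff_degree_lt hP0).2 hP)
  · rw [eventually_atTop] at hf ⊢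
    obtain ⟨N, hN⟩ := hf
    exact ⟨N, fun n hn => by beta_reduce; rw [hN _ (by omega), eval_comp]; simp⟩

theorem exists_sum_poly : ∀ (d : ℕ) (P : ℚ[X]), P.degree < d →
    ∃ Q : ℚ[X], Q.degree < (d + 1 : ℕ) ∧ ∀ x, Q.eval (x + 1) - Q.eval x = P.eval x := by
  intro d
  induction d with
  | zero =>
    intro P hP
    refine ⟨0, by rw [degree_zero]; exact WithBot.bot_lt_coe _, fun x => ?_⟩
    rw [Nat.cast_zero, Nat.WithBot.lt_zero_iff, degree_eq_bot] at hP
    rw [hP]; simp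
  | succ d ih =>
    intro P hP
    set a := P.coeff d / (d + 1 : ℚ)
    set R := P - C a * ((X + C 1) ^ (d + 1) - X ^ (d + 1))
    have hR : R.degree < d := by
      rw [degree_lt_iff_coeff_zero]
      intro m hm
      rw [coeff_sub, coeff_C_mul, coeff_sub, coeff_X_add_C_pow, coeff_X_pow, one_pow, one_mul]
      rcases hm.eq_or_lt with rfl | hm
      · rw [if_neg (Nat.lt_succ_self d).ne, Nat.choose_succ_self_right]
        simp only [a]
        push_cast
        field_simp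
        ring
      · rw [(degree_lt_iff_coeff_zero _ _).1 hP m hm, zero_sub, neg_eq_zero]
        rcases (Nat.succ_le_of_lt hm).eq_or_lt with rfl | hm'
        · simp
        · rw [if_neg hm'.ne', Nat.choose_eq_zero_of_lt hm']; simp
    obtain ⟨Q, hQ, hQ'⟩ := ih R hR
    refine ⟨Q + C a * X ^ (d + 1), ?_, fun x => ?_⟩
    · refine (degree_add_le _ _).trans_lt (max_lt (hQ.trans ?_) ?_)
      · exact Nat.cast_lt.2 (Nat.lt_succ_self _)
      · exact (degree_C_mul_X_pow_le _ _).trans_lt (Nat.cast_lt.2 (Nat.lt_succ_self _))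
    · have := hQ' x
      simp only [R, eval_sub, eval_mul, eval_C, eval_pow, eval_add, eval_X] at this ⊢
      linarith

theorem EvPoly.of_diff {d : ℕ} {f : ℕ → ℚ} (h : EvPoly d (fun n => f (n + 1) - f n)) :
    EvPoly (d + 1) f := by
  obtain ⟨P, hP, hf⟩ := h
  obtain ⟨Q, hQ, hQ'⟩ := exists_sum_poly d P hP
  rw [eventually_atTop] at hf
  obtain ⟨N, hN⟩ := hf
  refine ⟨Q + C (f N - Q.eval (N : ℚ)), ?_, eventually_atTop.2 ⟨N, fun n hn => ?_⟩⟩
  · exact (degree_add_le _ _).trans_lt (max_lt hQ (degree_C_le.trans_lt (Nat.cast_pos.2 d.succ_pos)))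
  · induction n, hn using Nat.le_induction with
    | base => simp
    | succ n hn ih =>
      have h1 := hN n hn
      have h2 := hQ' (n : ℚ)
      simp only [eval_add, eval_C] at ih h1 ⊢
      push_cast
      linarith

/-- A polynomial which is nonnegative and `O(n^d)` has degree at most `d`. -/
theorem natDegree_le_of_le_pow {P : ℚ[X]} {d : ℕ} {K : ℚ}
    (h0 : ∀ᶠ n : ℕ in atTop, 0 ≤ P.eval (n : ℚ))
    (h : ∀ᶠ n : ℕ in atTop, P.eval (n : ℚ) ≤ K * (n : ℚ) ^ d) : P.natDegree ≤ d := by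
  by_contra hc
  push Not at hc
  have hP : P ≠ 0 := fun h => by simp [h] at hc
  have hdeg : (X ^ d : ℚ[X]).degree < P.degree := by
    rw [degree_X_pow, degree_eq_natDegree hP]; exact Nat.cast_lt.2 hc
  have ht := (P.abs_div_tendsto_atTop_atTop_of_degree_gt _ hdeg (pow_ne_zero _ X_ne_zero)).comp
    (tendsto_natCast_atTop_atTop (R := ℚ))
  obtain ⟨n, ⟨⟨hn0, hn⟩, hK⟩, hpos⟩ :=
    (((h0.and h).and (ht.eventually_gt_atTop (|K| : ℚ))).and (eventually_gt_atTop 0)).exists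
  have hp : (0 : ℚ) < (n : ℚ) ^ d := pow_pos (Nat.cast_pos.2 hpos) d
  simp only [Function.comp_apply, eval_pow, eval_X] at hK
  rw [abs_of_nonneg (div_nonneg hn0 hp.le), lt_div_iff₀ hp] at hK
  nlinarith [le_abs_self K]

/-- A polynomial dominating `n^d` has degree at least `d`. -/
theorem le_natDegree_of_pow_le {P : ℚ[X]} {d c : ℕ} {K : ℚ}
    (h : ∀ᶠ n : ℕ in atTop, (n : ℚ) ^ d ≤ K * P.eval ((n + c : ℕ) : ℚ)) : d ≤ P.natDegree := by
  by_contra hc
  push Not at hc
  set Q := C K * P.comp (X + C (c : ℚ))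
  have hQ : Q.natDegree < d :=
    ((natDegree_C_mul_le _ _).trans (natDegree_comp_le.trans (le_of_eq (by rw [natDegree_X_add_C, mul_one])))).trans_lt hc
  have hdeg : Q.degree < (X ^ d : ℚ[X]).degree := by
    rw [degree_X_pow]
    exact degree_le_natDegree.trans_lt (Nat.cast_lt.2 hQ)
  have ht := (div_tendsto_atTop_zero_of_degree_lt Q _ hdeg).comp
    (tendsto_natCast_atTop_atTop (R := ℚ))
  obtain ⟨n, ⟨hn, hlt⟩, hpos⟩ :=
    ((h.and (ht.eventually (eventually_lt_nhds (zero_lt_one (α := ℚ))))).and (eventually_gt_atTop 0)).exists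
  have hp : (0 : ℚ) < (n : ℚ) ^ d := pow_pos (Nat.cast_pos.2 hpos) d
  simp only [Q, Function.comp_apply, eval_pow, eval_X, eval_mul, eval_C, eval_comp, eval_add,
    div_lt_one hp] at hlt
  push_cast at hn
  linarith

end Groth.Agent.HilbSam
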