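import Groth.Agent.HilbSam.EvPoly
import Mathlib.RingTheory.Length
import Mathlib.RingTheory.Filtration
import Mathlib.RingTheory.Regular.RegularSequence

/-! Hilbert functions of pairs of stable filtrations. -/

namespace Groth.Agent.HilbSam

open scoped Pointwise

variable {A : Type*} [CommRing A] {M : Type*} [AddCommGroup M] [Module A M]

/-- The length of `(P + Q) / Q`. -/
noncomputable def len (P Q : Submodule A M) : ℕ∞ := Module.length A (P.map Q.mkQ)

theorem len_eq_zero {P Q : Submodule A M} (h : P ≤ Q) : len P Q = 0 := by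
  have : P.map Q.mkQ = ⊥ := by
    rw [← le_bot_iff, Submodule.map_le_iff_le_comap, Submodule.comap_bot, Submodule.ker_mkQ]; exact h
  rw [len, this, Module.length_bot]

theorem len_add {P R Q : Submodule A M} (hQR : Q ≤ R) (hRP : R ≤ P) :
    len P Q = len R Q + len P R := by
  let g : P.map Q.mkQ →ₗ[A] P.map R.mkQ := (Submodule.factor hQR).restrict (fun y hy => by
    obtain ⟨z, hz, rfl⟩ := hy
    exact ⟨z, hz, rfl⟩)
  refine Module.length_eq_add_of_exact (Submodule.inclusion (Submodule.map_mono hRP)) g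
    (Submodule.inclusion_injective _) ?_ ?_
  · rintro ⟨_, z, hz, rfl⟩
    exact ⟨⟨Q.mkQ z, z, hz, rfl⟩, rfl⟩
  · rintro ⟨_, z, hz, rfl⟩
    constructor
    · intro h
      have h' : R.mkQ z = 0 := congrArg Subtype.val h
      exact ⟨⟨Q.mkQ z, z, (Submodule.Quotient.mk_eq_zero R).1 h', rfl⟩, rfl⟩
    · rintro ⟨⟨_, w, hw, rfl⟩, h⟩
      rw [← h]
      exact Subtype.ext ((Submodule.Quotient.mk_eq_zero R).2 hw)

theorem len_eq_of_smul (P K S : Submodule A M) (x : A) (hK : ∀ y ∈ P, y ∈ K ↔ x • y ∈ S) :
    len P K = len (P.map (LinearMap.lsmul A M x)) S := by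
  let g := (S.mkQ ∘ₗ LinearMap.lsmul A M x) ∘ₗ P.subtype
  let h := K.mkQ ∘ₗ P.subtype
  have hg : LinearMap.range g = (P.map (LinearMap.lsmul A M x)).map S.mkQ := by
    rw [LinearMap.range_comp, Submodule.range_subtype, Submodule.map_comp]
  have hh : LinearMap.range h = P.map K.mkQ := by
    rw [LinearMap.range_comp, Submodule.range_subtype]
  have hk : LinearMap.ker h = LinearMap.ker g := by
    ext ⟨y, hy⟩
    simp only [LinearMap.mem_ker, g, h, LinearMap.comp_apply, Submodule.subtype_apply,
      Submodule.mkQ_apply, Submodule.Quotient.mk_eq_zero, LinearMap.lsmul_apply]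
    exact hK y hy
  rw [len, len, ← (LinearEquiv.ofEq _ _ hh).length_eq, ← (LinearEquiv.ofEq _ _ hg).length_eq,
    ← h.quotKerEquivRange.length_eq, ← g.quotKerEquivRange.length_eq,
    (Submodule.quotEquivOfEq _ _ hk).length_eq]

theorem len_sup (P Q : Submodule A M) : len (Q ⊔ P) Q = len P Q := by
  have : Q.map Q.mkQ = ⊥ := by rw [← le_bot_iff, Submodule.map_le_iff_le_comap, Submodule.comap_bot, Submodule.ker_mkQ]
  rw [len, len, Submodule.map_sup, this, bot_sup_eq]

theorem len_mono {P P' Q : Submodule A M} (hQ : Q ≤ P) (h : P ≤ P') : len P Q ≤ len P' Q := by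
  rw [len_add hQ h]; exact le_self_add

theorem len_anti {P Q Q' : Submodule A M} (h : Q ≤ Q') (h' : Q' ≤ P) : len P Q' ≤ len P Q := by
  rw [len_add h h']; exact le_add_self

/-- The Hilbert function of a pair of stable filtrations is eventually polynomial. -/
theorem evPoly_pair [IsNoetherianRing A] [Module.Finite A M] {q : Ideal A} :
    ∀ (xs : List A), (∀ x ∈ xs, x ∈ q) → ∀ (F F' : q.Filtration M), F.Stable → F' ≤ F →
      ∀ (J : Ideal A), q ≤ J ⊔ Ideal.ofList xs → (∀ n, J • F.N n ≤ F'.N (n + 1)) →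
      (∀ n, len (F.N n) (F'.N n) ≠ ⊤) →
      EvPoly xs.length fun n => ((len (F.N n) (F'.N n)).toNat : ℚ) := by
  intro xs
  induction xs with
  | nil =>
    intro _ F F' hF _ J hJ hJF _
    obtain ⟨n₀, hn₀⟩ := hF
    refine evPoly_zero (Filter.eventually_atTop.2 ⟨n₀ + 1, fun n hn => ?_⟩) _
    obtain ⟨m, rfl⟩ : ∃ m, n = m + 1 := ⟨n - 1, by omega⟩
    rw [len_eq_zero, ENat.toNat_zero, Nat.cast_zero]
    rw [← hn₀ m (by omega)]
    rw [Ideal.ofList_nil, sup_bot_eq] at hJ
    exact (Submodule.smul_mono_left hJ).trans (hJF m)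
  | cons x xs ih =>
    intro hxs F F' hF hle J hJ hJF hfin
    have hxq : x ∈ q := hxs x (List.mem_cons_self ..)
    let L := LinearMap.lsmul A M x
    let K : q.Filtration M :=
      { N := fun n => F.N n ⊓ (F'.N (n + 1)).comap L
        mono := fun n => inf_le_inf (F.mono n) (Submodule.comap_mono (F'.mono (n + 1)))
        smul_le := fun n => le_inf ((smul_mono_right _ inf_le_left).trans (F.smul_le n)) (by
          rw [Submodule.smul_le]
          intro a ha y hy
          rw [Submodule.mem_comap, map_smul]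
          exact F'.smul_le (n + 1) (Submodule.smul_mem_smul ha hy.2)) }
    let C : q.Filtration M :=
      { N := fun n => F'.N n ⊔ (F.N (n - 1)).map L
        mono := fun n => sup_le_sup (F'.mono n) (Submodule.map_mono (F.antitone (by omega)))
        smul_le := fun n => by
          rw [Submodule.smul_sup, ← Submodule.map_smul'']
          refine sup_le_sup (F'.smul_le n) (Submodule.map_mono ?_)
          rcases n with _ | n
          · exact Submodule.smul_le_right
          · exact F.smul_le n }
    have hFL : ∀ n, (F.N n).map L ≤ F.N (n + 1) := fun n => by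
      rintro _ ⟨y, hy, rfl⟩
      exact F.smul_le n (Submodule.smul_mem_smul hxq hy)
    have hK : ∀ n, F'.N n ≤ K.N n := fun n => le_inf (hle n) fun y hy =>
      F'.smul_le n (Submodule.smul_mem_smul hxq hy)
    have hCF : C ≤ F := fun n => sup_le (hle n) (by
      rcases n with _ | n
      · rintro _ ⟨y, hy, rfl⟩
        exact Submodule.smul_mem _ x hy
      · exact hFL n)
    have hKF : K ≤ F := fun n => inf_le_left
    have hJ' : q ≤ (J ⊔ Ideal.span {x}) ⊔ Ideal.ofList xs := by
      rwa [sup_assoc, ← Ideal.ofList_cons]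
    have h1 := ih (fun y hy => hxs y (List.mem_cons_of_mem _ hy)) K F' (hF.of_le hKF) hK _ hJ'
      (fun n => by
        rw [Submodule.sup_smul]
        refine sup_le ((smul_mono_right _ inf_le_left).trans (hJF n)) ?_
        rw [Submodule.ideal_span_singleton_smul]
        rintro _ ⟨y, hy, rfl⟩
        exact hy.2)
      (fun n => ne_top_of_le_ne_top (hfin n) (len_mono (hK n) (hKF n)))
    have h2 := ih (fun y hy => hxs y (List.mem_cons_of_mem _ hy)) F C hF hCF _ hJ'
      (fun n => by
        rw [Submodule.sup_smul]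
        refine sup_le ((hJF n).trans le_sup_left) ?_
        rw [Submodule.ideal_span_singleton_smul]
        rintro _ ⟨y, hy, rfl⟩
        exact Submodule.mem_sup_right ⟨y, hy, rfl⟩)
      (fun n => ne_top_of_le_ne_top (hfin n) (len_anti le_sup_left (hCF n)))
    refine EvPoly.of_diff (EvPoly.congr (h2.shift.sub h1) (Filter.Eventually.of_forall fun n => ?_))
    have e1 := len_add (hK n) (hKF n)
    have e2 := len_add (R := C.N (n + 1)) (Q := F'.N (n + 1)) le_sup_left (hCF (n + 1))
    have e3 : len (F.N n) (K.N n) = len (C.N (n + 1)) (F'.N (n + 1)) := by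
      rw [len_eq_of_smul (F.N n) (K.N n) (F'.N (n + 1)) x fun y hy => ⟨fun h => h.2, fun h => ⟨hy, h⟩⟩]
      exact (len_sup _ _).symm
    have hne := hfin n
    have hne' := hfin (n + 1)
    rw [e1, ← lt_top_iff_ne_top, ENat.add_lt_top] at hne
    rw [e2, ← lt_top_iff_ne_top, ENat.add_lt_top] at hne'
    rw [e1, e2, ENat.toNat_add hne.1.ne hne.2.ne, ENat.toNat_add hne'.1.ne hne'.2.ne, e3]
    push_cast
    ring

end Groth.Agent.HilbSam
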